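import Mathlib
import Cfsg.Agent.Transfer.Frobenius
import Cfsg.Agent.Grp.Fitting
import Cfsg.Agent.Grp.Card
import Cfsg.Agent.Block.FixCount

/-! Consequences of Frobenius' theorem: nilpotent groups, minimal non-`p`-nilpotent groups,
an arithmetic criterion, and Wielandt's theorem on nilpotent Hall subgroups. -/

set_option autoImplicit false

namespace Cfsg.Agent.Transfer

open Cfsg Subgroup
open Cfsg.Agent.PLocal.Amb

variable {G : Type*} [Group G] [Finite G]

theorem hasNormalPComplement_of_isNilpotent [Group.IsNilpotent G] (p : ℕ) [Fact p.Prime] :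
    HasNormalPComplement p G := by
  rw [hasNormalPComplement_iff_exists_normal]
  refine ⟨pPrimeCore p G, inferInstance, Grp.pPrimeCore_coprime p G, ?_⟩
  rw [(Grp.isComplement'_pCore_pPrimeCore_of_isNilpotent p).index_eq_card]
  exact Grp.card_pCore p G

theorem isNilpotent_of_forall_hasNormalPComplement
    (h : ∀ (r : ℕ) [Fact r.Prime], HasNormalPComplement r G) : Group.IsNilpotent G := by
  rw [Grp.isNilpotent_iff_forall_sylow_normal]
  intro p hp P
  let D : Subgroup G := ⨅ r : {r : ℕ // r.Prime ∧ r ≠ p}, pResidual r G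
  have hDn : D.Normal := normal_iInf_normal fun r => inferInstance
  have hD : IsPGroup p D := by
    rw [IsPGroup.iff_orderOf]
    intro x
    refine ⟨_, Nat.eq_prime_pow_of_unique_prime_dvd (orderOf_pos x).ne' fun {r} hr hd => ?_⟩
    by_contra hne
    have := Fact.mk hr
    have h1 := (HasNormalPComplement.mem_pResidual_iff (h r)).mp (mem_iInf.mp x.2 ⟨r, hr, hne⟩)
    rw [Subgroup.orderOf_coe] at h1
    exact hr.one_lt.ne' (Nat.Coprime.eq_one_of_dvd h1.symm hd)
  have hPD : (P : Subgroup G) ≤ D := by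
    refine le_iInf fun r x hx => mem_pResidual_of_coprime ?_
    have := P.isPGroup'.orderOf_coprime ((Nat.coprime_primes hp.out r.2.1).mpr r.2.2.symm) ⟨x, hx⟩
    rwa [← Subgroup.orderOf_coe] at this
  rwa [← P.is_maximal' hD hPD]

theorem isNilpotent_iff_forall_hasNormalPComplement :
    Group.IsNilpotent G ↔ ∀ (r : ℕ) [Fact r.Prime], HasNormalPComplement r G :=
  ⟨fun _ r _ => hasNormalPComplement_of_isNilpotent r, isNilpotent_of_forall_hasNormalPComplement⟩

variable {p : ℕ} [hp : Fact p.Prime]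

/-- Structure of a minimal non-`p`-nilpotent group. -/
theorem exists_of_minimal_not_hasNormalPComplement (h1 : ¬ HasNormalPComplement p G)
    (h2 : ∀ H : Subgroup G, H ≠ ⊤ → HasNormalPComplement p H) :
    ∃ (B : Subgroup G) (q : ℕ) (g : G), B.Normal ∧ IsPGroup p B ∧ q.Prime ∧ q ≠ p ∧
      (∃ k, orderOf g = q ^ k) ∧ g ∉ 𝐂[B] ∧ zpowers g ⊔ B = ⊤ := by
  obtain ⟨B, q, g, hB, hq, hne, ⟨k, hk⟩, hn, hc⟩ := exists_qElement_of_not_hasNormalPComplement h1
  have htop : zpowers g ⊔ B = ⊤ := by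
    by_contra hne'
    refine hc (HasNormalPComplement.mem_centralizer_of_le (h2 _ hne') hB le_sup_right
      (mem_sup_left (mem_zpowers g)) hn ?_)
    rw [hk]
    exact Nat.Coprime.pow_left k ((Nat.coprime_primes hq hp.out).mpr hne)
  refine ⟨B, q, g, ?_, hB, hq, hne, ⟨k, hk⟩, hc, htop⟩
  rw [← normalizer_eq_top_iff, eq_top_iff, ← htop]
  exact sup_le (zpowers_le.mpr hn) le_normalizer

omit [Finite G] hp in
theorem isPGroup_quotient_of_sup_eq_top {q : ℕ} {B R : Subgroup G} [B.Normal] (hR : IsPGroup q R)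
    (h : R ⊔ B = ⊤) : IsPGroup q (G ⧸ B) := by
  refine hR.of_surjective ((QuotientGroup.mk' B).comp R.subtype) fun y => ?_
  obtain ⟨y, rfl⟩ := QuotientGroup.mk_surjective y
  have : y ∈ R ⊔ B := h ▸ mem_top y
  obtain ⟨r, hr, b, hb, rfl⟩ := mem_sup_of_normal_right.mp this
  exact ⟨⟨r, hr⟩, by simp [hb]⟩

/-- A minimal non-`p`-nilpotent group has a normal `r`-complement for every prime `r ≠ p`, and
for some prime divisor `r` of its order. -/
theorem hasNormalPComplement_of_minimal_not (h1 : ¬ HasNormalPComplement p G)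
    (h2 : ∀ H : Subgroup G, H ≠ ⊤ → HasNormalPComplement p H) :
    (∀ (r : ℕ) [Fact r.Prime], r ≠ p → HasNormalPComplement r G) ∧
      (∃ r : ℕ, r.Prime ∧ r ≠ p ∧ r ∣ Nat.card G) ∧ ∀ P : Sylow p G, (P : Subgroup G).Normal := by
  obtain ⟨B, q, g, hBn, hB, hq, hne, ⟨k, hk⟩, hc, htop⟩ :=
    exists_of_minimal_not_hasNormalPComplement h1 h2
  have := Fact.mk hq
  have hz : IsPGroup q (zpowers g) := IsPGroup.of_card (by rw [Nat.card_zpowers, hk])
  have hquot := isPGroup_quotient_of_sup_eq_top hz htop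
  refine ⟨fun r hr hrp => ?_, ⟨q, hq, hne, ?_⟩, fun P => ?_⟩
  · have hBr : (Nat.card B).Coprime r := Grp.coprime_card_of_isPGroup_of_ne hrp.symm hB
    by_cases hrq : r = q
    · subst hrq
      exact hasNormalPComplement_of_normal B hBr hquot
    · apply hasNormalPComplement_of_coprime
      rw [card_eq_card_quotient_mul_card_subgroup B]
      exact Nat.Coprime.mul_left (Grp.coprime_card_of_isPGroup_of_ne (Ne.symm hrq) hquot) hBr
  · refine dvd_trans ?_ (orderOf_dvd_natCard g)
    rw [hk]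
    refine dvd_pow_self q fun e => hc ?_
    rw [e, pow_zero, orderOf_eq_one_iff] at hk
    rw [hk]; exact one_mem _
  · have h3 : (P : Subgroup G) ≤ B := by
      intro x hx
      refine mem_of_coprime_of_isPGroup_quotient hquot ?_
      have := P.isPGroup'.orderOf_coprime ((Nat.coprime_primes hp.out hq).mpr hne.symm) ⟨x, hx⟩
      rwa [← Subgroup.orderOf_coe] at this
    rwa [← P.is_maximal' hB h3]

omit hp in
/-- A nontrivial group whose proper subgroups are nilpotent has a normal `r`-complement for some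
prime divisor `r` of its order. -/
theorem exists_hasNormalPComplement_of_proper_nilpotent [Nontrivial G]
    (h : ∀ H : Subgroup G, H ≠ ⊤ → Group.IsNilpotent H) :
    ∃ r : ℕ, r.Prime ∧ r ∣ Nat.card G ∧ HasNormalPComplement r G := by
  obtain ⟨q, hq, hd⟩ := Nat.exists_prime_and_dvd (Finite.one_lt_card (α := G)).ne'
  have := Fact.mk hq
  by_cases h1 : HasNormalPComplement q G
  · exact ⟨q, hq, hd, h1⟩
  obtain ⟨h2, ⟨r, hr, hne, hrd⟩, -⟩ := hasNormalPComplement_of_minimal_not h1 fun H hH =>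
    haveI := h H hH
    hasNormalPComplement_of_isNilpotent q
  have := Fact.mk hr
  exact ⟨r, hr, hrd, h2 r hne⟩

/-- If there is no normal `p`-complement then some prime `q ≠ p` dividing `|G|` divides
`p ^ i - 1` for some `i ≥ 1` with `p ^ i` dividing `|G|`. -/
theorem exists_prime_dvd_pow_sub_one_of_not_hasNormalPComplement
    (h : ¬ HasNormalPComplement p G) :
    ∃ q i : ℕ, q.Prime ∧ q ≠ p ∧ q ∣ Nat.card G ∧ 1 ≤ i ∧ p ^ i ∣ Nat.card G ∧ q ∣ p ^ i - 1 := by
  obtain ⟨B, q, g, hB, hq, hne, ⟨k, hk⟩, hn, hc⟩ := exists_qElement_of_not_hasNormalPComplement h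
  have := Fact.mk hq
  have hz : IsPGroup q (zpowers g) := IsPGroup.of_card (by rw [Nat.card_zpowers, hk])
  have h1 := Block.card_modEq_card_centralizer hz (· ∈ B) fun u hu x hx =>
    conj_mem_of_mem_normalizer (zpowers_le.mpr hn hu) hx
  have h2 : Nat.card B ≡ Nat.card ↥(B ⊓ 𝐂[zpowers g]) [MOD q] := h1
  have hlt : B ⊓ 𝐂[zpowers g] < B := by
    refine lt_of_le_of_ne inf_le_left fun e => hc ?_
    exact le_centralizer_iff.mp (e.ge.trans inf_le_right) (mem_zpowers g)
  obtain ⟨a, ha⟩ := IsPGroup.iff_card.mp hB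
  obtain ⟨b, hb⟩ := IsPGroup.iff_card.mp (hB.to_le hlt.le)
  have hab : b < a := by
    have := Grp.card_lt_of_lt hlt
    rw [ha, hb] at this
    exact (Nat.pow_lt_pow_iff_right hp.out.one_lt).mp this
  obtain ⟨i, rfl⟩ := Nat.exists_eq_add_of_lt hab
  refine ⟨q, i + 1, hq, hne, ?_, by omega, ?_, ?_⟩
  · refine dvd_trans ?_ (orderOf_dvd_natCard g)
    rw [hk]
    refine dvd_pow_self q fun e => hc ?_
    rw [e, pow_zero, orderOf_eq_one_iff] at hk
    rw [hk]; exact one_mem _
  · refine dvd_trans ?_ (card_subgroup_dvd_card B)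
    rw [ha]
    exact pow_dvd_pow p (by omega)
  · rw [ha, hb] at h2
    have h3 := (Nat.modEq_iff_dvd' (Nat.pow_le_pow_right hp.out.pos (by omega))).mp h2.symm
    rw [add_assoc, pow_add, ← Nat.mul_sub_one] at h3
    exact Nat.Coprime.dvd_of_dvd_mul_left
      (Nat.Coprime.pow_right b ((Nat.coprime_primes hq hp.out).mpr hne)) h3

/-- In a nilpotent subgroup, `p`-subgroups centralize `p'`-subgroups. -/
theorem le_centralizer_of_isNilpotent {H P L : Subgroup G} [Group.IsNilpotent H]
    (hP : IsPGroup p P) (hPH : P ≤ H) (hL : (Nat.card L).Coprime p) (hLH : L ≤ H) : P ≤ 𝐂[L] := by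
  obtain ⟨T, hT, hPT⟩ := exists_isSyl_ge hP hPH
  obtain ⟨S, rfl⟩ := hT.exists_sylow_map
  have : (S : Subgroup H).Normal := inferInstance
  refine hPT.trans (le_centralizer_iff.mp fun g hg => ?_)
  exact HasNormalPComplement.mem_centralizer_of_le (hasNormalPComplement_of_isNilpotent p) hT.pgrp
    hT.le (hLH hg) (le_normalizer_map_subtype _ (hLH hg)) (coprime_orderOf_of_mem hL hg)

omit hp in
/-- **Wielandt's theorem**: if `H` is a nilpotent Hall `π`-subgroup of `M`, every `π`-subgroup of `M`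
is conjugate in `M` to a subgroup of `H`. -/
theorem exists_cj_le_of_nilpotent_hall {H M : Subgroup G} [Group.IsNilpotent H] (hHM : H ≤ M)
    (K : Subgroup G) (hKM : K ≤ M) (hK : (Nat.card K).Coprime (H.relIndex M)) :
    ∃ x ∈ M, cj(x, K) ≤ H := by
  induction K using Grp.subgroup_card_induction with
  | _ K ih =>
  have ih' : ∀ L : Subgroup G, L < K → ∃ x ∈ M, cj(x, L) ≤ H := fun L hL =>
    ih L (Grp.card_lt_of_lt hL) (hL.le.trans hKM)
      (Nat.Coprime.coprime_dvd_left (card_dvd_of_le hL.le) hK)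
  by_cases h0 : K = ⊥
  · exact ⟨1, one_mem _, by rw [h0, cj_bot]; exact bot_le⟩
  have : Nontrivial K := (nontrivial_iff_ne_bot K).mpr h0
  obtain ⟨r, hr, hrd, hrK⟩ := exists_hasNormalPComplement_of_proper_nilpotent (G := K) (by
    intro L hL
    have h1 : L.map K.subtype < K := lt_of_le_of_ne (map_subtype_le L) fun e => hL (by
      apply map_injective K.subtype_injective
      rw [e, ← MonoidHom.range_eq_map, range_subtype])
    obtain ⟨x, -, hx⟩ := ih' _ h1
    have h2 := Grp.isNilpotent_of_le hx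
    rw [map_map] at h2
    exact Group.nilpotent_of_mulEquiv (L.equivMapOfInjective
      ((MulAut.conj x).toMonoidHom.comp K.subtype)
      ((MulAut.conj x).injective.comp K.subtype_injective)).symm)
  have := Fact.mk hr
  have hL : (Nat.card 𝐎[r, K]).Coprime r := by
    rw [card_map_of_injective K.subtype_injective]
    exact hasNormalPComplement_iff_coprime.mp hrK
  have hlt : 𝐎[r, K] < K := lt_of_le_of_ne (pRes_le r K) fun e => by
    rw [e] at hL
    exact hr.one_lt.ne' (Nat.Coprime.eq_one_of_dvd hL.symm hrd)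
  obtain ⟨x, hxM, hx⟩ := ih' _ hlt
  obtain ⟨T, hT⟩ := exists_isSyl r K
  obtain ⟨S, hS⟩ := exists_isSyl r H
  have hSM : IsSyl r S M := by
    refine isSyl_of_not_dvd_relIndex hS.pgrp (hS.le.trans hHM) ?_
    rw [← relIndex_mul_relIndex S H M hS.le hHM]
    intro hd
    rcases (Nat.Prime.dvd_mul hr).mp hd with hd | hd
    · exact hS.not_dvd_relIndex hd
    · exact hr.one_lt.ne' (Nat.eq_one_of_dvd_coprimes hK hrd hd)
  have h1 : S ≤ M ⊓ 𝐍[cj(x, 𝐎[r, K])] := le_inf hSM.le
    ((le_centralizer_of_isNilpotent hS.pgrp hS.le (by rwa [card_cj]) hx).trans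
      (centralizer_le_normalizer' _))
  have h2 : cj(x, T) ≤ M ⊓ 𝐍[cj(x, 𝐎[r, K])] := by
    refine le_inf (cj_le_of_mem (hT.le.trans hKM) hxM) ?_
    rw [normalizer_cj]
    exact cj_mono x (hT.le.trans (le_normalizer_pRes r K))
  obtain ⟨y, hy, h3⟩ := (hSM.mono h1 inf_le_left).exists_cj_le (isPGroup_cj x hT.pgrp) h2
  refine ⟨y * x, mul_mem hy.1 hxM, ?_⟩
  rw [← hT.pRes_sup, cj_mul, cj_sup, cj_sup, cj_of_mem_normalizer hy.2]
  exact sup_le hx (h3.trans hS.le)

end Cfsg.Agent.Transfer
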