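import Cfsg.Agent.Transfer.K3Loc
import Cfsg.Agent.PLocal.CFMinT

/-! For `p = 3` (and all odd `p`) the pair `Z(S)`, `K(S)` controls transfer. -/

set_option autoImplicit false

namespace Cfsg.Agent.Transfer.K3

open Subgroup Cfsg Cfsg.Agent.PLocal Cfsg.Agent.PLocal.CF Cfsg.Agent.PLocal.GN
open scoped commutatorElement

universe u

variable {p : ℕ} [hp : Fact p.Prime]

/-- The characteristic subgroup `K(S)`. -/
def KK (p : ℕ) (S : Type u) [Group S] : Subgroup S := inducedFunctor (Kst p) (JT S)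

/-- The centre as a functor. -/
def ZZ (S : Type u) [Group S] : Subgroup S := center S

omit hp in
theorem map_KK {S G : Type u} [Group S] [Group G] {τ : S →* G} (hτ : Function.Injective τ) :
    (KK p S).map τ = inducedFunctor (Kst p) (τ.range ⊓ Ce (centerThompsonAOf τ.range)) := by
  rw [KK, ← ind_map hτ, map_jt hτ]

theorem KK_functor : IsCharPFunctor.{u} p (KK p) := by
  refine ⟨fun Q _ _ hQ _ e => ?_, fun Q R _ _ _ _ φ => ?_⟩
  · have h1 : JT Q ≠ ⊥ := fun e => center_ne_bot' hQ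
      (eq_bot_iff.2 ((center_le_centralizer _).trans e.le))
    have := (nontrivial_iff_ne_bot _).2 h1
    refine Kst_ne_bot (hQ.to_subgroup (JT Q)) (map_injective (JT Q).subtype_injective ?_)
      ((map_eq_bot_iff_of_injective _ (JT Q).subtype_injective).1 e)
    rw [map_jt (JT Q).subtype_injective, ← MonoidHom.range_eq_map, range_subtype,
      centerThompsonAOf_eq_of_le (P := ⊤) ?_ le_top, zj_eq, inf_idem]
    rw [thompsonSubgroupAOf_top]
    exact le_centralizer_iff.1 inf_le_right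
  · rw [map_KK φ.injective, MonoidHom.range_eq_top.2 φ.surjective, zj_eq, top_inf_eq, KK]

theorem ZZ_functor : IsCharPFunctor.{u} p ZZ := by
  refine ⟨fun Q _ _ hQ _ => center_ne_bot' hQ, fun Q R _ _ _ _ φ => ?_⟩
  rw [ZZ, map_center_eq φ.injective, MonoidHom.range_eq_top.2 φ.surjective, top_inf_eq, coe_top,
    centralizer_univ, ZZ]

omit hp in
theorem ind_KK {G : Type u} [Group G] (S : Subgroup G) :
    inducedFunctor (KK p) S = inducedFunctor (Kst p) (S ⊓ Ce (centerThompsonAOf S)) := by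
  rw [inducedFunctor, map_KK S.subtype_injective, range_subtype]

theorem ind_ZZ {G : Type u} [Group G] (S : Subgroup G) : inducedFunctor ZZ S = S ⊓ Ce S := by
  rw [inducedFunctor, ZZ, map_center_eq S.subtype_injective, range_subtype]

theorem pair_functor : ∀ W ∈ ({ZZ, KK p} : Set (∀ (Q : Type u) [Group Q], Subgroup Q)),
    IsCharPFunctor.{u} p W := by
  rintro _ (rfl | rfl)
  exacts [ZZ_functor, KK_functor]

theorem family_controls (hp2 : 2 < p) (G : Type u) [Group G] [Finite G] :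
    FamilyControlsTransferIn p (fam {ZZ, KK p} G) ⊤ := by
  refine familyT_of_constrained (G := G) pair_functor (fun K R _ hc ih => ?_) G sec_refl
  by_contra hG
  obtain ⟨S⟩ : Nonempty (Sylow p (K ⧸ R.subgroupOf K)) := inferInstance
  have nn : ∀ W ∈ ({ZZ, KK p} : Set (∀ (Q : Type u) [Group Q], Subgroup Q)),
      ¬ (inducedFunctor W (S : Subgroup (K ⧸ R.subgroupOf K))).Normal := fun W hW hn =>
    hG (familyT_iff.2 ⟨S, syl_top S,
      ft_of_normal (W := inducedFunctor W) (Set.mem_image_of_mem _ hW) le_normalizer_of_normal⟩)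
  obtain ⟨-, ⟨h1, h2⟩, ⟨-, h3⟩, -⟩ := min_failure_t pair_functor ⟨_, Or.inl rfl⟩ ih hG
    (syl_top S) rfl rfl
  obtain ⟨Y, h4, h5⟩ := local_step hp2 (Amb.isSyl_top S) hc h1 h2
    (fun e => nn _ (Or.inl rfl) (by rw [ind_ZZ]; exact Push.normal_of_le_center e))
    (by rw [← ind_KK]; exact nn _ (Or.inr rfl))
  refine h4 (le_normalizer_iff_commutator_le_left.2 ((commutator_mono inf_le_right le_rfl).trans ?_))
  rw [inf_comm]
  exact (le_inf (commutator_le_left _ _) h5).trans h3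

theorem focal_nm_center {G : Type*} [Group G] [Finite G] {S : Subgroup G} (hS : Syl p S ⊤) :
    S ⊓ ⁅Nm (S ⊓ Ce S), Nm (S ⊓ Ce S)⁆ ≤
      S ⊓ ⁅Ce (S ⊓ Ce S), Ce (S ⊓ Ce S)⁆ ⊔ S ⊓ ⁅Nm S, Nm S⁆ := by
  have h1 : S ≤ Ce (S ⊓ Ce S) := le_centralizer_iff.1 inf_le_right
  refine Syl.inf_commutator_le (hS.of_le (h1.trans (centralizer_le_normalizer _)) le_top)
    fun a ha g hg hga => ?_
  obtain ⟨n, hn, h2⟩ := (hS.of_le h1 le_top).frattini (g := g⁻¹)
    (Amb.normalizer_le_normalizer_centralizer _ (inv_mem hg))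
  have h3 : n * a * n⁻¹ ∈ S := by
    have := Amb.conj_mem_of_mem_normalizer h2 hga
    simpa [mul_assoc] using this
  have e : a⁻¹ * (g * a * g⁻¹) = a⁻¹ * (n * a * n⁻¹) *
      ((n * a * n⁻¹)⁻¹ * ((n * g⁻¹)⁻¹ * (n * a * n⁻¹) * (n * g⁻¹)⁻¹⁻¹)) := by group
  rw [e]
  refine mul_mem_sup ⟨S.mul_mem (S.inv_mem ha) h3, inv_mul_conj_mem_commutator (h1 ha) hn⟩
    ⟨S.mul_mem (S.inv_mem h3) (Amb.conj_mem_of_mem_normalizer (inv_mem h2) h3),
      inv_mul_conj_mem_commutator (le_normalizer h3) (inv_mem h2)⟩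

theorem focal_iff (hp2 : 2 < p) {G : Type u} [Group G] [Finite G] {S : Subgroup G}
    (hS : Syl p S ⊤) (g : G) : g ∈ S ⊓ commutator G ↔
      ∃ a ∈ S ⊓ ⁅Ce (S ⊓ Ce S), Ce (S ⊓ Ce S)⁆,
        ∃ b ∈ S ⊓ ⁅Nm (inducedFunctor (KK p) S), Nm (inducedFunctor (KK p) S)⁆, g = a * b := by
  have hn : Nm S ≤ Nm (inducedFunctor (KK p) S) := cf_nm (induced_cf KK_functor) hS.pg
  constructor
  · intro hg
    have h1 := ft_of_family (fam_cf pair_functor) (family_controls hp2 G) hS hg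
    have h2 : famTr (fam {ZZ, KK p} G) S ⊤ ≤ S ⊓ ⁅Ce (S ⊓ Ce S), Ce (S ⊓ Ce S)⁆ ⊔
        S ⊓ ⁅Nm (inducedFunctor (KK p) S), Nm (inducedFunctor (KK p) S)⁆ := by
      refine famTr_le_iff.2 ?_
      rintro _ ⟨_, rfl | rfl, rfl⟩ <;> rw [top_inf_eq]
      · beta_reduce
        rw [ind_ZZ]
        exact (focal_nm_center hS).trans (sup_le_sup_left
          (inf_le_inf_left _ (commutator_mono hn hn)) _)
      · exact le_sup_right
    obtain ⟨a, ha, b, hb, e⟩ := mem_sup_nm (inf_le_left.trans (Amb.le_normalizer_inf le_normalizer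
      ((le_normalizer.trans hn).trans (le_nm_commutator _)))) (h2 h1)
    exact ⟨a, ha, b, hb, e.symm⟩
  · rintro ⟨a, ha, b, hb, rfl⟩
    exact mul_mem ⟨ha.1, commutator_mono le_top le_top ha.2⟩
      ⟨hb.1, commutator_mono le_top le_top hb.2⟩

end Cfsg.Agent.Transfer.K3
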