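import Cfsg.Agent.PLocal.TVMain
import Cfsg.Agent.PLocal.PushE

/-! Abelian offenders in minimal parabolic groups. -/

set_option autoImplicit false
set_option linter.unusedSectionVars false

namespace Cfsg.Agent.Transfer.K3

open Subgroup Cfsg Cfsg.Agent.PLocal Cfsg.Agent.PLocal.Amb Cfsg.Agent.PLocal.TV
open Cfsg.Agent.PLocal.Push

variable {P : Type*} [Group P] {V : Type*} [AddCommGroup V] [DistribMulAction P V]

theorem exists_proj {E X : Subgroup P} (hc : X ≤ 𝐂[E]) (hi : E ⊓ X = ⊥) :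
    ∃ π : ↥(E ⊔ X) →* E, ∀ g, (π g : P)⁻¹ * g ∈ X := by
  have ex : ∀ g : ↥(E ⊔ X), ∃ e : E, (e : P)⁻¹ * g ∈ X := fun g => by
    obtain ⟨e, he, x, hx, k⟩ := (mem_sup_of_le_normalizer_left
      (hc.trans (centralizer_le_normalizer' E))).1 g.2
    exact ⟨⟨e, he⟩, by rw [k]; simpa using hx⟩
  have un : ∀ (g : P) (e e' : E), (e : P)⁻¹ * g ∈ X → (e' : P)⁻¹ * g ∈ X → e = e' :=
    fun g e e' h h' => by
      have k : (e : P)⁻¹ * e' ∈ E ⊓ X := ⟨E.mul_mem (E.inv_mem e.2) e'.2, by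
        have := X.mul_mem h (X.inv_mem h')
        simpa using this⟩
      rw [hi, mem_bot, inv_mul_eq_one] at k
      exact Subtype.ext k
  choose π hπ using ex
  refine ⟨MonoidHom.mk' π fun a b => un _ _ _ (hπ (a * b)) ?_, hπ⟩
  have k := mul_comm_of_le_cent hc (hπ a) (π b).2
  have : ((π a * π b : E) : P)⁻¹ * ((a * b : ↥(E ⊔ X)) : P) =
      ((π a : P)⁻¹ * a) * ((π b : P)⁻¹ * b) := by
    rw [coe_mul, coe_mul]
    calc _ = (π b : P)⁻¹ * ((π a : P)⁻¹ * a * π b) * ((π b : P)⁻¹ * b) := by group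
      _ = _ := by rw [k]; group
  rw [this]
  exact X.mul_mem (hπ a) (hπ b)

variable [Finite P] [Finite V] {p : ℕ} [hp : Fact p.Prime] {𝒟 : Set (Subgroup P)}

/-- Timmesfeld's replacement argument for abelian groups. -/
theorem quad_of_min (hp' : ∀ v : V, p • v = 0) {A : Subgroup P} (hA : IsPGroup p A)
    (hc' : A ≤ 𝐂[A]) (h1 : Nat.card V ≤ mm V A)
    (h2 : ∀ A₀ ≤ A, A₀ ≠ ⊥ → A₀ ≠ A → mm V A₀ < mm V A) : cm V A ≤ fx V A := by
  rw [cm_le_iff]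
  intro a₀ ha₀ u
  have hc : ∀ a ∈ A, ∀ b ∈ A, a * b = b * a := fun a ha b hb => mul_comm_of_le_cent hc' ha hb
  let X : AddSubgroup V := AddSubgroup.closure {w | ∃ a ∈ A, dl a u = w}
  let B : Subgroup P := A ⊓ cent P X
  have memB : ∀ a ∈ A, (dl a u ∈ fx V A ↔ a ∈ B) := fun a ha =>
    ⟨fun k => ⟨ha, (le_cent_iff (X := zpowers a)).2 ((AddSubgroup.closure_le _).2 (by
        rintro _ ⟨b, hb, rfl⟩
        exact mem_fx_zpowers.2 (dl_eq_zero.1 (by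
          rw [dl_dl_comm (hc a ha b hb), dl_of_mem_fx hb k])))) (mem_zpowers a)⟩,
      fun k b hb => dl_eq_zero.1 (by
        rw [dl_dl_comm (hc b hb a ha), dl_eq_zero]
        exact k.2 _ (AddSubgroup.subset_closure ⟨b, hb, rfl⟩))⟩
  have hXB : X ⊔ fx V A ≤ fx V B := sup_le (le_cent_iff.1 inf_le_right) (fx_anti inf_le_left)
  have key : mm V A ≤ Nat.card B * Nat.card ↥(X ⊔ fx V A) := by
    let f : A × fx V A → ↥(X ⊔ fx V A) := fun x => ⟨dl (x.1 : P) u + x.2, AddSubgroup.add_mem _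
      (AddSubgroup.mem_sup_left (AddSubgroup.subset_closure ⟨_, x.1.2, rfl⟩))
      (AddSubgroup.mem_sup_right x.2.2)⟩
    have hf : ∀ x y, f x = f y → (y.1 : P)⁻¹ * x.1 ∈ B := fun x y e => by
      have e1 : dl (x.1 : P) u + x.2 = dl (y.1 : P) u + y.2 := congrArg Subtype.val e
      refine (memB _ (A.mul_mem (A.inv_mem y.1.2) x.1.2)).1 ?_
      have e2 : dl ((y.1 : P)⁻¹ * x.1) u = (y.1 : P)⁻¹ • ((y.2 : V) - x.2) := by
        rw [dl_mul, dl_inv, ← sub_eq_add_neg, ← smul_sub]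
        congr 1
        rw [← sub_eq_zero] at e1 ⊢
        rw [← e1]; abel
      rw [e2, ((fx V A).sub_mem y.2.2 x.2.2) _ (A.inv_mem y.1.2)]
      exact (fx V A).sub_mem y.2.2 x.2.2
    choose! s hs using fun (w : ↥(X ⊔ fx V A)) (hw : ∃ x, f x = w) => hw
    rw [mm, ← Nat.card_prod, ← Nat.card_prod]
    refine Nat.card_le_card_of_injective
      (fun x => (⟨((s (f x)).1 : P)⁻¹ * x.1, hf _ _ (hs _ ⟨x, rfl⟩).symm⟩, f x)) fun x y e => ?_
    have e1 : f x = f y := congrArg Prod.snd e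
    have e2 : ((s (f x)).1 : P)⁻¹ * x.1 = ((s (f y)).1 : P)⁻¹ * y.1 :=
      congrArg (fun z => (z.1 : P)) e
    rw [e1, mul_right_inj] at e2
    have e3 : dl (x.1 : P) u + x.2 = dl (y.1 : P) u + y.2 := congrArg Subtype.val e1
    rw [e2, add_right_inj] at e3
    exact Prod.ext (Subtype.ext e2) (Subtype.ext e3)
  have key2 : mm V A ≤ mm V B := key.trans (Nat.mul_le_mul_left _ (card_add_le hXB))
  by_cases e1 : B = A
  · exact (memB a₀ ha₀).2 (e1 ▸ ha₀)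
  have e2 : B = ⊥ := by
    by_contra e2
    exact (h2 B inf_le_left e2 e1).not_ge key2
  rw [e2, card_bot, one_mul] at key
  have e3 : cm V A ⊔ fx V A = ⊤ := top_le_iff.1 ((add_eq_top_of_card_le (h1.trans key)).ge.trans
    (sup_le_sup_right ((AddSubgroup.closure_le _).2 (by
      rintro _ ⟨b, hb, rfl⟩; exact dl_mem_cm hb u)) _))
  rw [fx_eq_top_of_sup hp' hA e3]
  trivial

theorem exists_minOff_ab (hf : ∀ g : P, (∀ v : V, g • v = v) → g = 1) (hp' : ∀ v : V, p • v = 0)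
    {X : Subgroup P} (hX : IsPGroup p X) (hc' : X ≤ 𝐂[X]) (hne : X ≠ ⊥)
    (hc : Nat.card V ≤ mm V X) : ∃ A ∈ minOff P V p, A ≤ X := by
  obtain ⟨Y, ⟨hY1, hY2⟩, hYmax⟩ := Set.exists_max_image {Y : Subgroup P | Y ≤ X ∧ Y ≠ ⊥}
    (mm V) (Set.toFinite _) ⟨X, le_rfl, hne⟩
  obtain ⟨A, ⟨h1, h2, h3⟩, hmin⟩ := (wellFounded_lt (α := Subgroup P)).has_min
    {A | A ≤ X ∧ A ≠ ⊥ ∧ mm V Y ≤ mm V A} ⟨Y, hY1, hY2, le_rfl⟩
  have k := hc.trans ((hYmax X ⟨le_rfl, hne⟩).trans h3)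
  have k2 : ∀ A₀ ≤ A, A₀ ≠ ⊥ → A₀ ≠ A → mm V A₀ < mm V A := fun A₀ e1 e2 e3 => by
    by_contra e4
    exact hmin A₀ ⟨e1.trans h1, e2, h3.trans (not_lt.1 e4)⟩ (lt_of_le_of_ne e1 e3)
  exact ⟨A, ⟨isEA_of_quad hf hp' le_rfl (quad_of_min hp' (hX.to_le h1)
    (h1.trans (hc'.trans (Amb.centralizer_anti h1))) k k2), h2, k, k2⟩, h1⟩

variable {T A B : Subgroup P}

/-- Abelian offenders in `T` centralize the minimal offenders in `T`. -/
theorem le_cent_of_ab (h : TIO V p (minOff P V p)) (hT : IsPGroup p T)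
    (g : Good V (minOff P V p) T A B)
    (htr : ∀ A' ∈ minOff P V p, A' ≤ T → ∃ t ∈ T, cj(t, A) = A') :
    ∀ X ≤ T, X ≤ 𝐂[X] → Nat.card V ≤ mm V X → ∀ A' ∈ minOff P V p, A' ≤ T → X ≤ 𝐂[A'] := by
  intro X
  induction hn' : Nat.card X using Nat.strong_induction_on generalizing X with
  | _ n ih =>
  intro hXT hX hc
  by_cases hne : X = ⊥
  · rw [hne]; exact fun _ _ _ => bot_le
  obtain ⟨A', hA', hA'X⟩ := exists_minOff_ab h.faith h.exp (hT.to_le hXT) hX hne hc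
  obtain ⟨t, ht, rfl⟩ := htr A' hA' (hA'X.trans hXT)
  set Y := cj(t⁻¹, X) with hYe
  have hY : Y ≤ 𝐂[Y] := by rw [hYe, centralizer_cj]; exact cj_mono _ hX
  have hYT : Y ≤ T := cj_le_of_mem hXT (T.inv_mem ht)
  have hAY : A ≤ Y := cj_le_iff.1 hA'X
  obtain ⟨s1, s2, s3, s4, s5⟩ := g.split h hT hYT hAY (hY.trans (Amb.centralizer_anti hAY))
  have k : ∀ A' ∈ minOff P V p, A' ≤ T → Y ⊓ 𝐍[B] ≤ 𝐂[A'] := by
    refine ih _ ?_ _ rfl (inf_le_left.trans hYT)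
      (inf_le_left.trans (hY.trans (Amb.centralizer_anti inf_le_left))) ?_
    · rw [← hn', ← card_cj t⁻¹ X]
      exact Grp.card_lt_card_of_lt (lt_of_le_of_ne inf_le_left s3)
    obtain ⟨b, hb, hb1⟩ := h.exists_ne_one g.memB
    have k1 : (dl b : V →+ V).range ⊔ fx V Y ≤ fx V (Y ⊓ 𝐍[B]) := by
      refine sup_le ?_ (fx_anti inf_le_left)
      rintro _ ⟨v, rfl⟩ r hr
      rw [smul_dl_of_comm (mul_comm_of_le_cent s4 hr (mem_sup_right hb)), smul_eq_add_dl r v,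
        map_add, dl_of_mem_fx hb (s5 (dl_mem_cm hr v)).2, add_zero]
    have k2 := card_add_eq (dl b : V →+ V).range (fx V Y)
    have k3 : (dl b : V →+ V).range ⊓ fx V Y = ⊥ := eq_bot_iff.2
      ((inf_le_inf_left _ (fx_anti hAY)).trans (g.toFP.symm.range_inf h hb hb1).le)
    rw [k3, AddSubgroup.card_bot, one_mul, h.card_range g.memB hb hb1, ← g.card] at k2
    calc Nat.card V ≤ mm V Y := by rw [hYe, mm_cj]; exact hc
      _ ≤ Nat.card A * Nat.card ↥(Y ⊓ 𝐍[B]) * Nat.card (fx V Y) := Nat.mul_le_mul_right _ s1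
      _ = Nat.card ↥(Y ⊓ 𝐍[B]) * (Nat.card A * Nat.card (fx V Y)) := by ring
      _ ≤ _ := Nat.mul_le_mul_left _ (k2 ▸ card_add_le k1)
  intro A' hA'' hA'T
  have k3 := cj_le_of_mem hA'T (T.inv_mem ht)
  have k4 : Y ≤ 𝐂[cj(t⁻¹, A')] := s2 ▸ sup_le
    (h.comm_of_pgroup hT g.memA (h.conj _ _ hA'') g.le k3) (k _ (h.conj _ _ hA'') k3)
  rwa [hYe, centralizer_cj, cj_le_cj_iff] at k4

theorem cm_le_fx_cent (h : TIO V p 𝒟) (hT : IsPGroup p T) (g : Good V 𝒟 T A B) :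
    cm V A ≤ fx V (T ⊓ 𝐂[A]) := by
  obtain ⟨-, s2, -, s4, s5⟩ := g.split h hT inf_le_left (le_inf g.le (h.comm g.memA)) inf_le_right
  rw [s2, fx_sup]
  refine le_inf (h.quad A g.memA) (cm_le_iff.2 fun a ha v r hr => ?_)
  rw [smul_dl_of_comm (mul_comm_of_le_cent s4 hr (mem_sup_left ha)), smul_eq_add_dl r v,
    map_add, dl_of_mem_fx ha (s5 (dl_mem_cm hr v)).1, add_zero]

theorem mem_cent_of_fix (h : TIO V p 𝒟) (hT : IsPGroup p T) (g : Good V 𝒟 T A B) {b : P}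
    (hb : b ∈ T) (hfix : b ∈ cent P (cm V A)) : b ∈ 𝐂[A] := by
  have k : ∀ a ∈ A, ∀ v : V, dl a v = dl (b * a * b⁻¹) (b • v) := fun a ha v => by
    rw [← smul_dl, hfix _ (dl_mem_cm ha v)]
  have hn : cj(b, A) = A := by
    by_contra e
    obtain ⟨a, ha, ha1⟩ := h.exists_ne_one g.memA
    obtain ⟨v, hv⟩ := g.toFP.exists_dl_ne h ha ha1
    exact hv (k a ha v ▸ h.dl_mem_of_comm' (h.conj b A g.memA) g.memB
      (g.other _ (h.conj b A g.memA) (cj_le_of_mem g.le hb) e) (conj_mem_cj b ha) _)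
  obtain ⟨w, -, hw, hw'⟩ := exists_fixed_mod h.exp (hT.to_le (zpowers_le.2 hb)) (U := fx V A)
    (W := ⊤) (zpowers_le.2 (mem_nrm_of fun u hu => smul_mem_fx (cj_eq_iff.1 hn) hu))
    (fun r _ u => by simp) fun e => by
      obtain ⟨a, ha, ha1⟩ := h.exists_ne_one g.memA
      exact ha1 (h.faith a fun v => e (AddSubgroup.mem_top v) a ha)
  refine mem_centralizer_iff.2 fun a ha => ?_
  have ha' : b * a * b⁻¹ ∈ A := hn ▸ conj_mem_cj b ha
  by_contra e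
  refine hw (h.ti A g.memA (a⁻¹ * (b * a * b⁻¹)) (A.mul_mem (A.inv_mem ha) ha')
    (fun e' => e ?_) w (dl_eq_zero.1 ?_))
  · rw [inv_mul_eq_one, eq_mul_inv_iff_mul_eq] at e'
    exact e'
  · have k2 := k a ha w
    rw [smul_eq_add_dl b w, map_add, dl_of_mem_fx ha' (hw' b (mem_zpowers b)), add_zero] at k2
    rw [h.dl_mul_eq g.memA (A.inv_mem ha) ha', h.dl_inv_eq g.memA ha, ← k2, neg_add_cancel]

open Matrix.SpecialLinearGroup Cfsg.Agent.Class in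
theorem tirk_of_r1 (h : TIO V p 𝒟) (r : R1 V 𝒟 A B) :
    TIRk p (A.subgroupOf (A ⊔ B)) ∧ 𝐍[A.subgroupOf (A ⊔ B)] ≠ ⊤ := by
  obtain ⟨n, hn⟩ := isEA_card (h.isEA r.memA)
  obtain ⟨F, _, _, hF⟩ := SL2Nat.exists_field hn (h.one_lt_card r.memA).ne'
  have := charP_of_card (hF.trans hn)
  obtain ⟨φ, -, hφ, -⟩ := r.sl2Str h F (by rw [Nat.card_eq_fintype_card, hF])
  let e := (MulEquiv.ofBijective φ hφ).symm
  have t := (tirk_SL2 (F := F) p).map e.toMonoidHom e.surjective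
  refine ⟨t.of_isSyl (t.syl.of_card_ge ((h.pgrp r.memA).comap_subtype) le_top ?_), fun k => ?_⟩
  · rw [Subgroup.card_map_of_injective e.injective, card_lineStab_point,
      card_subgroupOf_of_le le_sup_left, Nat.card_eq_fintype_card, hF]
  · obtain ⟨x, hx, hxB⟩ := r.conj
    have k2 := cj_eq_iff.2 (k.ge (mem_top (⟨x, hx⟩ : ↥(A ⊔ B))))
    rw [cj_subgroupOf, hxB] at k2
    have k3 := congrArg (Subgroup.map (A ⊔ B).subtype) k2
    rw [map_subgroupOf_of_le le_sup_right, map_subgroupOf_of_le le_sup_left] at k3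
    exact r.ne k3.symm

theorem exists_quot (h : TIO V p 𝒟) (hT : IsPGroup p T) (g : Good V 𝒟 T A B) :
    ∃ (L : Subgroup P) (φ : L →* ↥(A ⊔ B)), B ≤ L ∧ IsSyl p (T ⊓ 𝐂[A]) L ∧
      ((T ⊓ 𝐂[A]).subgroupOf L).map φ = A.subgroupOf (A ⊔ B) ∧
      (∀ x : L, φ x ∈ 𝐍[A.subgroupOf (A ⊔ B)] → (x : P) ∈ 𝐍[(T ⊓ 𝐂[A] : Subgroup P)]) ∧
      (∀ x : L, φ x = 1 → (x : P) ∈ 𝐂[(A ⊔ B : Subgroup P)]) ∧
      ∀ x : L, cm V A ≤ fx V (zpowers (x : P)) → cm V A ≤ fx V (zpowers (φ x : P)) := by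
  set X := T ⊓ 𝐂[A] with hX
  have hAX : A ≤ X := le_inf g.le (h.comm g.memA)
  obtain ⟨-, s2, -, s4, s5⟩ := g.split h hT inf_le_left hAX inf_le_right
  set Y := X ⊓ 𝐍[B] with hY
  have hi : (A ⊔ B) ⊓ Y = ⊥ := eq_bot_iff.2 fun x hx => g.toFP.eq_one_of_trivial h hx.1
    fun v => by rw [fx_sup]; exact s5 (dl_mem_cm hx.2 v)
  obtain ⟨π, hπ⟩ := exists_proj s4 hi
  have sA : IsSyl p A (A ⊔ B) := by
    have := (tirk_of_r1 h g.toR1).1.syl.map (A ⊔ B).subtype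
    rwa [map_subgroupOf_of_le le_sup_left, ← MonoidHom.range_eq_map, range_subtype] at this
  have hXL : X ≤ (A ⊔ B) ⊔ Y := s2.le.trans (sup_le_sup_right le_sup_left _)
  have key : ∀ R : Subgroup P, IsPGroup p R → X ≤ R → ∀ x : ↥((A ⊔ B) ⊔ Y), (x : P) ∈ R →
      (π x : P) ∈ A := fun R hR hXR x hx => by
    refine sA.max (R ⊓ (A ⊔ B)) (hR.to_le inf_le_left) (le_inf (hAX.trans hXR) le_sup_left)
      inf_le_right ⟨?_, (π x).2⟩
    have := R.mul_mem hx (R.inv_mem (hXR (hπ x).1))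
    simpa using this
  have dec : ∀ x : ↥((A ⊔ B) ⊔ Y), (x : P) = π x * ((π x : P)⁻¹ * x) := fun x => by group
  refine ⟨_, π, le_sup_right.trans le_sup_left, ⟨hXL, hT.to_le inf_le_left, fun R hR h1 h2 x hx => ?_⟩,
    le_antisymm ?_ fun a ha => ?_, fun x hx => ?_, fun x hx => ?_, fun x hx => ?_⟩
  · rw [show x = _ from dec ⟨x, h2 hx⟩]
    exact X.mul_mem (hAX (key R hR h1 ⟨x, h2 hx⟩ hx)) (hπ _).1
  · rintro _ ⟨x, hx, rfl⟩
    exact key X (hT.to_le inf_le_left) le_rfl x hx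
  · refine ⟨⟨a, hXL (hAX ha)⟩, hAX ha, ?_⟩
    have k : (π ⟨a, hXL (hAX ha)⟩ : P)⁻¹ * a ∈ (A ⊔ B) ⊓ Y :=
      ⟨(A ⊔ B).mul_mem ((A ⊔ B).inv_mem (π _).2) a.2, hπ _⟩
    rw [hi, mem_bot, inv_mul_eq_one] at k
    exact Subtype.ext k
  · rw [dec x]
    refine mul_mem ?_ (le_normalizer (hπ x).1)
    have k : (π x : P) ∈ 𝐍[A] := by
      have k2 := congrArg (Subgroup.map (A ⊔ B).subtype) (cj_eq_iff.2 hx)
      rw [cj_subgroupOf, map_subgroupOf_of_le le_sup_left, map_subgroupOf_of_le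
        (cj_le_of_mem le_sup_left (π x).2)] at k2
      exact cj_eq_iff.1 k2
    rw [hX, s2]
    exact Amb.le_normalizer_sup (zpowers_le.2 k) (zpowers_le.2 (centralizer_le_normalizer' _
      (cent_symm s4 (π x).2))) (mem_zpowers _)
  · have := s4 (hπ x)
    rwa [hx, OneMemClass.coe_one, inv_one, one_mul] at this
  · intro v hv
    have k1 := mem_fx_zpowers.1 (hx hv)
    have k2 := cm_le_fx_cent h hT g hv _ (hπ x).1
    rw [mul_smul, k1, inv_smul_eq_iff] at k2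
    exact mem_fx_zpowers.2 k2.symm

end Cfsg.Agent.Transfer.K3
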