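import Cfsg.Agent.Transfer.K3Push
import Cfsg.Agent.Transfer.K3Mod
import Cfsg.Agent.PLocal.TVQuot
import Cfsg.Agent.PLocal.ZJ

/-! The local step: a minimal parabolic group in which neither `Z(S)` nor `K(S)` is normal. -/

set_option autoImplicit false

namespace Cfsg.Agent.Transfer.K3

open Subgroup Cfsg Cfsg.Agent.PLocal Cfsg.Agent.PLocal.Amb Cfsg.Agent.PLocal.TV
open Cfsg.Agent.PLocal.Push
open scoped commutatorElement

universe u

variable {p : ℕ} [hp : Fact p.Prime]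

theorem off_of_maxAb {G : Type*} [Group G] [Finite G] [NeZero p] {V S A : Subgroup G} [V.Normal]
    (hV : IsElementaryAbelian p V) (hVS : V ≤ S) (hA : A ∈ maxAb S) : letI := quoAct hV
    Nat.card (EA hV) ≤ mm (EA hV) (A.map (QuotientGroup.mk' 𝐂[V])) := by
  let _ := quoAct hV
  have hAc : A ≤ 𝐂[A] := fun a ha b hb => maxAb_comm hA b hb a ha
  have h1 : (A ⊓ 𝐂[V]) ⊔ V ≤ 𝐂[((A ⊓ 𝐂[V]) ⊔ V : Subgroup G)] := by
    rw [Amb.centralizer_sup]
    exact sup_le (le_inf (inf_le_left.trans (hAc.trans (Amb.centralizer_anti inf_le_left)))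
      inf_le_right) (le_inf (cent_symm inf_le_right) (isEA_le_centralizer hV))
  have h2 := hA.2.2 _ (sup_le (inf_le_left.trans hA.1) hVS)
    ⟨⟨fun a b => Subtype.ext (h1 b.2 a a.2)⟩⟩
  have h3 := card_sup_mul_card_inf (A := A ⊓ 𝐂[V]) (B := V) le_normalizer_of_normal
  have h4 : Nat.card ↥(A ⊓ 𝐂[V] ⊓ V) ≤ Nat.card ↥(V ⊓ 𝐂[A]) := card_le_card_of_le
    (le_inf inf_le_right (inf_le_left.trans (inf_le_left.trans hAc)))
  have k := h3.ge.trans (Nat.mul_le_mul h2 h4)
  rw [← card_map_mk_mul 𝐂[V] A, mul_comm (Nat.card (A.map _)), mul_assoc] at k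
  rw [mm, (rel_quo A).card_fx, EA.card_eq]
  exact Nat.le_of_mul_le_mul_left k Nat.card_pos

theorem isSyl_comap {G G' : Type*} [Group G] [Group G'] [Finite G] (f : G →* G') {S : Subgroup G}
    (hS : IsSyl p S ⊤) {X L : Subgroup G'} (hX : IsSyl p X L) (h : X ≤ S.map f) :
    (S ⊓ X.comap f).map f = X ∧ IsSyl p (S ⊓ X.comap f) (L.comap f) := by
  have e : (S ⊓ X.comap f).map f = X := le_antisymm (map_le_iff_le_comap.2 inf_le_right)
    fun x hx => by
      obtain ⟨s, hs, rfl⟩ := h hx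
      exact ⟨s, ⟨hs, hx⟩, rfl⟩
  refine ⟨e, inf_le_right.trans (comap_mono hX.le), hS.pgrp.to_le inf_le_left,
    fun R hR h1 h2 r hr => ?_⟩
  have k1 : f r ∈ X := hX.max (R.map f) (hR.map f) (e.ge.trans (map_mono h1))
    (map_le_iff_le_comap.2 h2) (mem_map_of_mem f hr)
  obtain ⟨s, hs, e'⟩ := e.ge k1
  have k2 := (hS.inf_of_le (N := f.ker) le_top le_normalizer_of_normal).max (R ⊓ f.ker)
    (hR.to_le inf_le_left) (le_inf (le_trans (inf_le_inf_left _ (ker_le_comap f X)) h1)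
      inf_le_right) inf_le_right (x := s⁻¹ * r)
    ⟨R.mul_mem (R.inv_mem (h1 hs)) hr, 
      MonoidHom.mem_ker.2 (by rw [map_mul, map_inv, e', inv_mul_cancel])⟩
  exact ⟨(Subgroup.mul_mem_cancel_left _ (S.inv_mem hs.1)).1 k2.1, k1⟩

omit hp in
theorem nm_le_nm_ind {G : Type u} [Group G] (B : Subgroup G) :
    𝐍[B] ≤ 𝐍[inducedFunctor (Kst p) B] := fun g hg => by
  rw [← cj_eq_iff, ← ind_map (MulAut.conj g).injective, cj_eq_iff.2 hg]

theorem local_step {G : Type u} [Group G] [Finite G] (hp2 : 2 < p) {S M : Subgroup G}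
    (hS : IsSyl p S ⊤) (hc : 𝐂[pCore p G] ≤ pCore p G) (hM : M ≠ ⊤)
    (hmax : ∀ H, S ≤ H → H ≠ ⊤ → H ≤ M) (hZ : ¬ S ⊓ 𝐂[S] ≤ center G)
    (hK : ¬ (inducedFunctor (Kst p) (S ⊓ 𝐂[centerThompsonAOf S])).Normal) :
    ∃ Y, ¬ Y ≤ M ∧ ⁅pCore p G, Y⁆ ≤ ⁅M, M⁆ := by
  have : NeZero p := ⟨hp.out.ne_zero⟩
  have hQn : (pCore p G).Normal := inferInstance
  set Q := pCore p G with hQ
  set B := S ⊓ 𝐂[centerThompsonAOf S] with hB
  set J := thompsonSubgroupAOf S with hJe
  have hQS : Q ≤ S := by have := hS.pCoreOf_le; rwa [pCoreOf_top] at this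
  have nB : 𝐍[S] ≤ 𝐍[B] := le_normalizer_inf le_rfl
    (le_normalizer_centralizer (normalizer_le_normalizer_centerThompsonAOf S))
  have hKM : 𝐍[inducedFunctor (Kst p) B] ≤ M := hmax _
    (le_normalizer.trans (nB.trans (nm_le_nm_ind B))) fun e => hK (normalizer_eq_top_iff.1 e)
  have hBM : 𝐍[B] ≤ M := (nm_le_nm_ind B).trans hKM
  have hSM : S ≤ M := le_normalizer.trans (nB.trans hBM)
  have mo : CP.MinOver S M ⊤ := CP.minOver_of_isSyl hS
    (fun e => hM (eq_top_iff.2 (e.trans (nB.trans hBM)))) hSM hM.lt_top fun X h1 h2 => hmax X h1 h2.ne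
  have hZQ : S ⊓ 𝐂[S] ≤ Q ⊓ 𝐂[Q] := le_inf ((inf_le_right.trans (Amb.centralizer_anti hQS)).trans hc)
    (inf_le_right.trans (Amb.centralizer_anti hQS))
  have cen : ∀ N : Subgroup G, N ≤ 𝐂[(S ⊓ 𝐂[S] : Subgroup G)] → N ≤ M := fun N hN => by
    refine le_sup_left.trans (hmax (N ⊔ S) le_sup_right fun e => hZ fun z hz => ?_)
    exact mem_center_iff.2 fun x =>
      ((e.ge.trans (sup_le hN (cent_symm inf_le_right))) (mem_top x) z hz).symm
  have hJ : ¬ J ≤ Q := fun e => by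
    have h1 : (centerThompsonAOf S).Normal := by
      rw [← centerThompsonAOf_eq_of_le e hQS, ← normalizer_eq_top_iff, eq_top_iff]
      exact (normalizer_eq_top Q).ge.trans (normalizer_le_normalizer_centerThompsonAOf Q)
    have h2 := (hS.inf_of_le (N := 𝐂[centerThompsonAOf S]) le_top
      le_normalizer_of_normal).frattini_sup (L := ⊤) le_top le_normalizer_of_normal
    exact hM (eq_top_iff.2 (h2.ge.trans (sup_le (cen _ (Amb.centralizer_anti
      (center_le_centerThompsonAOf S))) (inf_le_right.trans hBM))))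
  set V := omegaOneCenter p Q with hVe
  have hV : IsElementaryAbelian p V := omegaOne_center_isEA _
  have : V.Normal := omegaOne_normal _
  let _ := quoAct hV
  have hVO : V ≤ Q ⊓ 𝐂[Q] := omegaOne_le _
  have hVS : V ≤ S := hVO.trans (inf_le_left.trans hQS)
  have hCM : 𝐂[V] ≤ M := by
    refine ((mo.pRes_le_or hS.pgrp le_top le_normalizer_of_normal).resolve_left fun e => ?_)
    refine mo.not_pRes_le hS (cen _ (le_trans ?_ (Amb.centralizer_anti hZQ)))
    rw [← pRes_pRes]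
    exact pRes_le_of_pow fun g hg => exists_pow_mem_centralizer_of_mem_centralizer_omegaOne
      (by omega) ((isPGroup_pCore' p G).to_le inf_le_left) (le_normalizer_of_normal (mem_top g))
      (e hg)
  have hOC : Q ≤ 𝐂[V] := cent_symm (hVO.trans inf_le_right)
  have hSC : S ⊓ 𝐂[V] ≤ Q := by
    have := le_pCoreOf (hS.pgrp.to_le inf_le_left) le_top
      (mo.le_normalizer_inf_syl hS le_rfl hCM le_normalizer_of_normal)
    rwa [pCoreOf_top] at this
  set f := QuotientGroup.mk' 𝐂[V] with hf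
  have hfs : Function.Surjective f := QuotientGroup.mk'_surjective _
  have hk : f.ker = 𝐂[V] := QuotientGroup.ker_mk' _
  have hT' := hS.map f
  have hM' := mo.map f (inf_le_right.trans (hk.le.trans hCM))
  rw [Subgroup.map_top_of_surjective f hfs] at hT' hM'
  have hO := pCore_quot_eq_bot hS mo hCM hOC
  have nb : ∀ X ≤ S.map f, ⊤ ≤ 𝐍[X] → X = ⊥ := fun X hX hn => by
    have := le_pCoreOf (hT'.pgrp.to_le hX) le_top hn
    rwa [pCoreOf_top, hO, le_bot_iff] at this
  have ab : ∀ A ∈ maxAb S, A.map f ≤ 𝐂[A.map f] := by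
    rintro A hA _ ⟨a, ha, rfl⟩ _ ⟨b, hb, rfl⟩
    rw [← map_mul, ← map_mul, maxAb_comm hA a ha b hb]
  obtain ⟨A₀, hA₀, hA₀Q⟩ : ∃ A ∈ maxAb S, ¬ A ≤ Q := by
    by_contra! e; exact hJ (thompsonSubgroupAOf_le_iff.2 e)
  obtain ⟨X₀, hX₀, -⟩ := exists_minOff_ab quo_faith EA.p_nsmul (hT'.pgrp.to_le (map_mono hA₀.1))
    (ab _ hA₀) (fun e => hA₀Q (le_trans (le_inf hA₀.1 (by rwa [Subgroup.map_eq_bot_iff, hk] at e))
      hSC)) (off_of_maxAb hV hVS hA₀)
  obtain ⟨v, hv, hv'⟩ := exists_fixed_not quo_faith EA.p_nsmul hT' hM' hO hX₀.1 hX₀.2.1 hX₀.2.2.1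
  have hC : cent _ (fx (EA hV) (S.map f)) ≤ M.map f :=
    hM'.le_of_le (le_cent_iff.2 le_rfl) le_top fun e => hv' (le_cent_iff.1 e hv)
  have h := tio_minOff quo_faith EA.p_nsmul hT' hM' hO hC
  obtain ⟨A, A', g, hgen, htr⟩ := exists_good_min h ⟨X₀, hX₀⟩ hT' hM' hO hC
  set X := S.map f ⊓ 𝐂[A] with hX
  have hNX : 𝐍[X] ≤ M.map f := by
    have e : JJ (minOff _ (EA hV) p) X = JJ (minOff _ (EA hV) p) (S.map f) :=
      le_antisymm (JJ_mono inf_le_left) (JJ_le_iff.2 fun Y hY hYT =>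
        le_JJ hY (le_inf hYT (h.comm_of_pgroup hT'.pgrp hY g.memA hYT g.le)))
    refine (normalizer_le_JJ h.conj X).trans (e ▸ hM'.le_of_le
      (le_normalizer.trans (normalizer_le_JJ h.conj _)) le_top fun e' => ?_)
    have := le_JJ g.memA g.le
    rw [nb _ (JJ_le _) e', le_bot_iff] at this
    exact h.ne_bot _ g.memA this
  have hJX : J.map f ≤ X := map_le_iff_le_comap.2 (thompsonSubgroupAOf_le_iff.2 fun Y hY =>
    map_le_iff_le_comap.1 (le_inf (map_mono hY.1) (le_cent_of_ab h hT'.pgrp g htr _ (map_mono hY.1)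
      (ab Y hY) (off_of_maxAb hV hVS hY) A g.memA g.le)))
  have hfix := cm_le_fx_cent h hT'.pgrp g
  have hBX : B ≤ X.comap f := fun b hb => ⟨mem_map_of_mem f hb.1, mem_cent_of_fix h hT'.pgrp g
    (mem_map_of_mem f hb.1) (cent_anti (hfix.trans (fx_anti hJX)) (mk_mem_cent_fx.2
      (Amb.centralizer_anti (by
        rw [centerThompsonAOf_eq_inf_centralizer]; exact inf_le_inf_right _ hVS) hb.2)))⟩
  obtain ⟨tU, nU⟩ := tirk_of_r1 h g.toR1
  obtain ⟨L, φ, hAL, sX, q1, q2, q3, q4⟩ := exists_quot h hT'.pgrp g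
  obtain ⟨π, -, hπ, -⟩ := exists_quo_hom 𝐂[V] L
  obtain ⟨eR, sR⟩ := isSyl_comap f hS sX inf_le_left
  set R := S ⊓ X.comap f with hR
  have hBR : B ≤ R := le_inf inf_le_left hBX
  have hJR : J ≤ R := le_inf (thompsonSubgroupAOf_le S) (map_le_iff_le_comap.1 hJX)
  have hQR : Q ≤ R := le_inf hQS (hOC.trans (hk.ge.trans (ker_le_comap f X)))
  have mM : ∀ x, f x ∈ M.map f → x ∈ M := fun x hx => by
    have : x ∈ (M.map f).comap f := hx
    rwa [comap_map_eq, sup_eq_left.2 (hk.le.trans hCM)] at this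
  have hΦM : (𝐍[A.subgroupOf (A ⊔ A')]).comap (φ.comp π) ≤ M.subgroupOf (L.comap f) :=
    fun x hx => mM _ (hNX (by have := q2 (π x) hx; rwa [hπ] at this))
  have hRU : (R.subgroupOf (L.comap f)).map (φ.comp π) = A.subgroupOf (A ⊔ A') := by
    rw [← Subgroup.map_map, ← q1]
    congr 1
    refine le_antisymm ?_ fun x hx => ?_
    · rintro _ ⟨x, hx, rfl⟩
      rw [mem_subgroupOf, hπ]; exact hx.2
    · obtain ⟨r, hr, e⟩ := eR.ge hx
      exact ⟨⟨r, sR.le hr⟩, hr, Subtype.ext ((hπ _).trans e)⟩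
  obtain ⟨P, hRP, -, hPM, hmin⟩ := exists_min_not_le (R := R.subgroupOf (L.comap f)) (N := ⊤)
    (M := M.subgroupOf (L.comap f)) le_top fun e => hM'.lt.ne (eq_top_iff.2 (hgen.ge.trans
      (sup_le (sup_le (g.le.trans hM'.le) (hAL.trans fun x hx => by
        obtain ⟨x, rfl⟩ := hfs x
        exact mem_map_of_mem f (e (mem_top (⟨x, hx⟩ : L.comap f))))) hM'.le)))
  obtain ⟨hP, k1, k2⟩ := push_of_min (φ.comp π) tU nU hΦM ((isSyl_sub sR).mono hRP le_top) hRU
    hPM hmin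
  let ι : P →* G := (L.comap f).subtype.comp P.subtype
  have hι : Function.Injective ι := Subtype.val_injective.comp Subtype.val_injective
  have rι : R ≤ ι.range := fun x hx => ⟨⟨⟨x, sR.le hx⟩, hRP hx⟩, rfl⟩
  have mι : ∀ {Y : Subgroup G}, Y ≤ R → (Y.comap ι).map ι = Y := fun hY =>
    map_comap_eq_self (hY.trans rι)
  change PushE p (R.comap ι) _ (M.comap ι) at hP
  have hQP : Q.comap ι ≤ pCore p P :=
    le_pCore' ((isPGroup_pCore' p G).comap_of_injective ι hι)
  obtain ⟨Y, hYM, hY⟩ := step_two hp2 ((φ.comp π).comp P.subtype) tU nU hP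
    (fun x hx => hΦM hx) (by
      rw [← hRU, ← Subgroup.map_map]
      exact congrArg _ (map_subgroupOf_of_le hRP)) (k1.ge.trans inf_le_left)
    (fun x hx => hQP (hc fun y hy => by
      obtain ⟨y, rfl⟩ := rι (hQR hy)
      rw [← map_mul, ← map_mul, hx y (hQP hy)]))
    (fun e => by
      obtain ⟨a, ha, ha1⟩ := h.exists_ne_one g.memA
      obtain ⟨w, hw⟩ := g.toFP.exists_dl_ne h ha ha1
      refine hw fun b hb => ?_
      obtain ⟨x, hx, e1⟩ := k2.ge (mem_top (⟨b, mem_sup_right hb⟩ : ↥(A ⊔ A')))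
      have e2 := q4 (π x) fun u hu => by
        rw [mem_fx_zpowers, hπ, (acts_quo _).smul_eq_iff]
        obtain ⟨y, hy⟩ := rι (hQR (hVO u.val_mem).1)
        have e3 : y ∈ R.comap ι ⊓ 𝐂[R.comap ι] := ⟨mem_comap.2 (by
          rw [hy]; exact hQR (hVO u.val_mem).1), fun r hr => hι (by
            rw [map_mul, map_mul, hy]
            exact (acts_quo _).smul_eq_iff.1 (hfix hu _ (eR.le (mem_map_of_mem f hr))))⟩
        rw [← hy]
        exact (map_mul ι ⟨x, hx⟩ y).symm.trans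
          ((congrArg ι (mem_center_iff.1 (e e3) ⟨x, hx⟩)).trans (map_mul ι y ⟨x, hx⟩))
      have e4 := mem_fx_zpowers.1 (e2 (dl_mem_cm ha w))
      rwa [show φ (π x) = _ from e1] at e4)
    (fun e => by
      have e1 : J.map f ≤ 𝐂[(A ⊔ A' : Subgroup _)] := by
        rintro _ ⟨x, hx, rfl⟩
        rw [hJe, ← thompsonSubgroupAOf_eq_of_le hJR inf_le_left, ← mι le_rfl,
          ← map_thompsonSubgroupAOf _ hι] at hx
        obtain ⟨x, hx, rfl⟩ := hx
        have := q3 (π x) (k1.ge (e hx)).1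
        rwa [hπ] at this
      have e2 := nb _ (map_mono (thompsonSubgroupAOf_le S)) (hgen.ge.trans (sup_le
        ((cent_symm e1).trans (centralizer_le_normalizer' _))
        ((map_mono (le_normalizer.trans (normalizer_le_normalizer_thompsonSubgroupAOf S))).trans
          (le_normalizer_map f))))
      rw [Subgroup.map_eq_bot_iff, hk] at e2
      exact hJ ((le_inf (thompsonSubgroupAOf_le S) e2).trans hSC))
  refine ⟨Y.map ι, fun e => hYM (map_le_iff_le_comap.1 e), ?_⟩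
  rcases hY with hY | hY
  · refine absurd (map_le_iff_le_comap.1 (le_trans ?_ hKM)) hYM
    refine (map_mono hY).trans ((le_normalizer_map ι).trans (le_of_eq ?_))
    rw [← ind_map hι, map_inf_centralizer_of_injective hι, map_centerThompsonAOf _ hι, mι le_rfl,
      centerThompsonAOf_eq_of_le hJR inf_le_left,
      show R ⊓ 𝐂[centerThompsonAOf S] = B from le_antisymm (inf_le_inf_right _ inf_le_left)
        (le_inf hBR inf_le_right)]
  · rw [← mι hQR, ← map_commutator]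
    refine (map_mono ((commutator_mono hQP le_rfl).trans hY)).trans ?_
    rw [map_commutator]
    exact commutator_mono (map_comap_le _ _) (map_comap_le _ _)

end Cfsg.Agent.Transfer.K3
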