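import Cfsg.Agent.Transfer.K3Quad
import Cfsg.Agent.PLocal.TraceFix
import Cfsg.Agent.PLocal.CharP
import Cfsg.Prelude.Def_ConjugacyFunctors

/-! Pushing up with the Baumann subgroup and the trace argument. -/

set_option autoImplicit false

namespace Cfsg.Agent.Transfer.K3

open Subgroup Cfsg Cfsg.Agent.PLocal Cfsg.Agent.PLocal.Amb
open Cfsg.Agent.PLocal.CommMod Cfsg.Agent.PLocal.Push Cfsg.Agent.PLocal.GN
open scoped commutatorElement

universe u

variable {p : ℕ} [hp : Fact p.Prime]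

theorem isSyl_sub {G : Type*} [Group G] {R Y : Subgroup G} (h : IsSyl p R Y) :
    IsSyl p (R.subgroupOf Y) ⊤ := by
  obtain ⟨S, hS⟩ := h.exists_sylow
  exact hS ▸ isSyl_top S

theorem exists_min_not_le {G : Type*} [Group G] [Finite G] {R N M : Subgroup G} (h1 : R ≤ N)
    (h2 : ¬ N ≤ M) : ∃ Y, R ≤ Y ∧ Y ≤ N ∧ ¬ Y ≤ M ∧ ∀ Y', R ≤ Y' → Y' < Y → Y' ≤ M := by
  obtain ⟨Y, ⟨k1, k2, k3⟩, hmin⟩ := (wellFounded_lt (α := Subgroup G)).has_min
    {Y | R ≤ Y ∧ Y ≤ N ∧ ¬ Y ≤ M} ⟨N, h1, le_rfl, h2⟩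
  refine ⟨Y, k1, k2, k3, fun Y' e1 e2 => ?_⟩
  by_contra e3
  exact hmin Y' ⟨e1, e2.le.trans k2, e3⟩ e2

theorem push_of_min {G H : Type*} [Group G] [Finite G] [Group H] [Finite H] (Φ : G →* H)
    {U : Subgroup H} (hU : TIRk p U) (hn : 𝐍[U] ≠ ⊤) {M R Y : Subgroup G}
    (hM : (𝐍[U]).comap Φ ≤ M) (hR : IsSyl p R Y) (hRU : R.map Φ = U) (hY : ¬ Y ≤ M)
    (hmin : ∀ Y', R ≤ Y' → Y' < Y → Y' ≤ M) :
    PushE p (R.subgroupOf Y) (pCore p Y) (M.subgroupOf Y) ∧
      (Φ.comp Y.subtype).ker ⊓ R.subgroupOf Y = pCore p Y ∧ Y.map Φ = ⊤ := by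
  have hUY : U ≤ Y.map Φ := hRU ▸ map_mono hR.le
  have top : Y.map Φ = ⊤ := by
    obtain ⟨y, hy, hy'⟩ := SetLike.not_le_iff_exists.1 fun e : Y ≤ (𝐍[U]).comap Φ => hY (e.trans hM)
    obtain ⟨⟨x, hx⟩, hx1⟩ := ne_bot_iff_exists_ne_one.1 fun e : cj(Φ y, U) = ⊥ =>
      hn (by rw [cj_eq_bot.1 e]; exact normalizer_eq_top ⊥)
    refine eq_top_iff.2 ((hU.gen _ (hU.syl.cj_of_mem (mem_top _)) (fun e => hy' (cj_eq_iff.1 e)) x hx
      fun e => hx1 (Subtype.ext e)).ge.trans (sup_le hUY (zpowers_le.2 ?_)))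
    exact cj_le_of_mem hUY (mem_map_of_mem Φ hy) hx
  have e1 : (R.subgroupOf Y).map (Φ.comp Y.subtype) = U := by
    rw [← Subgroup.map_map, map_subgroupOf_of_le hR.le, hRU]
  have hRM : R ≤ M := le_trans (map_le_iff_le_comap.1 (hRU.le.trans le_normalizer)) hM
  obtain ⟨k1, k2, -⟩ := pushE_of_hom (M := M.subgroupOf Y) (isSyl_sub hR) (comap_mono hRM)
    (fun e => hY (subgroupOf_eq_top.1 e)) (fun X h1 h2 => map_le_iff_le_comap.1 (hmin _
      (by rw [← map_subgroupOf_of_le hR.le]; exact map_mono h1) (lt_of_le_of_ne (map_subtype_le X)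
        fun e => h2 (by rw [← map_subtype_subgroupOf X, e, subgroupOf_self]))))
    (Φ.comp Y.subtype) (by
      rw [← MonoidHom.range_eq_top, MonoidHom.range_comp, range_subtype, top])
    (e1 ▸ hU) (e1 ▸ hn)
  exact ⟨k1, k2, top⟩

omit hp in
theorem ind_map {G G' : Type u} [Group G] [Group G'] {f : G →* G'} (hf : Function.Injective f)
    (B : Subgroup G) :
    inducedFunctor (Kst p) (B.map f) = (inducedFunctor (Kst p) B).map f := by
  rw [inducedFunctor, inducedFunctor, ← Kst_map (B.equivMapOfInjective f hf), Subgroup.map_map,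
    Subgroup.map_map]
  rfl

theorem commutator_le_of_quad {L : Type*} [Group L] [Finite L] (hp2 : 2 < p) {S M D E : Subgroup L}
    (h : PushE p S (pCore p L) M) (hc : 𝐂[pCore p L] ≤ pCore p L)
    (hJ : S ≤ 𝐂[centerThompsonAOf S]) (hZ : ¬ S ⊓ 𝐂[S] ≤ center L) (hE : E ≤ S)
    (hq : ⁅⁅pCore p L, E⁆, E⁆ ≤ 𝐂[pCore p L]) (hn : ¬ E ≤ pCore p L) [D.Normal]
    (hD : D ≤ pCore p L) : D ⊓ commutator L ≤ ⁅M, M⁆ := by
  obtain ⟨u, hu, hu'⟩ := SetLike.not_le_iff_exists.1 hn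
  have o := h.off_center hc hJ hZ
  have := h.normal
  have hu2 := zpowers_le.2 hu
  refine TraceFix.inf_commutator_le h.syl h.max (hE hu) hu' ((isPGroup_pCore' p L).to_le hD)
    fun U V hUV hU => ChiefAct.iter_le_of_chief hUV (Z := pCore p L ⊓ 𝐂[pCore p L]) (hU.trans hD)
      (le_inf (iter_le le_normalizer_of_normal _) ?_) (le_bot_iff.1 ?_)
  · refine (iter_antitone le_normalizer_of_normal (show 2 ≤ p - 1 by omega)).trans ?_
    exact (iter_mono le_rfl hu2 2).trans hq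
  · refine (iter_antitone le_normalizer_of_normal (show 2 ≤ p - 1 by omega)).trans ?_
    refine (iter_mono le_rfl (hu2.trans hE) 2).trans (le_of_eq ?_)
    rw [iter_two, commutator_eq_bot_iff_le_centralizer]
    exact le_centralizer_iff.1 (h.quad o)

theorem step_two {P : Type u} [Group P] [Finite P] {H : Type*} [Group H] [Finite H] (hp2 : 2 < p)
    (Φ : P →* H) {U : Subgroup H} (hU : TIRk p U) (hn : 𝐍[U] ≠ ⊤) {R M : Subgroup P}
    (h : PushE p R (pCore p P) M) (hM : (𝐍[U]).comap Φ ≤ M) (hRU : R.map Φ = U)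
    (hK : pCore p P ≤ Φ.ker) (hc : 𝐂[pCore p P] ≤ pCore p P) (hZ : ¬ R ⊓ 𝐂[R] ≤ center P)
    (hJ : ¬ thompsonSubgroupAOf R ≤ pCore p P) :
    ∃ Y, ¬ Y ≤ M ∧ (Y ≤ 𝐍[inducedFunctor (Kst p) (R ⊓ 𝐂[centerThompsonAOf R])] ∨
      ⁅pCore p P, Y⁆ ≤ ⁅M, M⁆) := by
  have hTn := h.normal
  set T := pCore p P with hT
  set B := R ⊓ 𝐂[centerThompsonAOf R] with hB
  have hAB : ∀ A ∈ maxAb R, A ≤ B := fun A hA => le_inf hA.1 fun a ha z hz =>
    maxAb_comm hA z (centerThompsonAOf_le_of_mem hA hz) a ha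
  have hJB : thompsonSubgroupAOf R ≤ B := thompsonSubgroupAOf_le_iff.2 hAB
  obtain ⟨A, hA, hAT⟩ : ∃ A ∈ maxAb R, ¬ A ≤ T := by
    by_contra! e; exact hJ (thompsonSubgroupAOf_le_iff.2 e)
  have hBT : ¬ B ≤ T := fun e => hAT ((hAB A hA).trans e)
  have sB := (h.baumann hc hZ hA hAT).1
  set N := normalClosure (B : Set P) with hN
  have nB : 𝐍[R] ≤ 𝐍[B] := le_normalizer_inf le_rfl
    (le_normalizer_centralizer (normalizer_le_normalizer_centerThompsonAOf R))
  have hBR : B ⊔ T = R := (h.irr _ le_sup_right (sup_le inf_le_left h.core_le)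
    (le_normalizer_sup nB le_normalizer_of_normal)).resolve_left fun e => hBT (le_sup_left.trans e.le)
  have hBU : B.map Φ = U := by
    rw [← hRU, ← hBR, Subgroup.map_sup, (Subgroup.map_eq_bot_iff T).2 hK, sup_bot_eq]
  have hNM : ¬ N ≤ M := fun e => h.lt (eq_top_iff.2 ((h.sup_eq_top N fun e' =>
    hBT ((le_inf sB.le inf_le_left).trans e')).ge.trans (sup_le e h.le)))
  obtain ⟨L, hBL, hLN, hLM, hmin⟩ := exists_min_not_le sB.le hNM
  have sL := sB.mono hBL hLN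
  obtain ⟨hP, -, -⟩ := push_of_min Φ hU hn hM sL hBU hLM hmin
  have hDB : N ⊓ T ≤ B := sB.le_of_le_normalizer ((isPGroup_pCore' p P).to_le inf_le_right)
    inf_le_left le_normalizer_of_normal
  have hDL : N ⊓ T ≤ pCoreOf p L := le_pCoreOf ((isPGroup_pCore' p P).to_le inf_le_right)
    (hDB.trans hBL) le_normalizer_of_normal
  have cL : 𝐂[pCore p L] ≤ pCore p L := by
    have c1 : CP.IsCharP p N := (CP.isCharP_top_iff.2 hc).of_normal le_top le_normalizer_of_normal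
    have c2 : pCoreOf p N = N ⊓ T := by
      rw [pCoreOf_eq_inf_of_normal le_top le_normalizer_of_normal, pCoreOf_top]
    have c3 : N ⊓ 𝐂[(N ⊓ T : Subgroup P)] ≤ N ⊓ T := by
      have c4 : N ⊓ 𝐂[pCoreOf p N] ≤ pCoreOf p N := c1
      rwa [c2] at c4
    exact charP_iff.2 ((inf_le_inf hLN (Amb.centralizer_anti hDL)).trans (c3.trans hDL))
  have nc : ¬ B.subgroupOf L ⊓ 𝐂[B.subgroupOf L] ≤ center L := fun e => by
    have e1 : L ⊔ R = ⊤ := by
      by_contra e1; exact hLM (le_sup_left.trans (h.max _ le_sup_right e1))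
    refine hZ fun z hz => mem_center_iff.2 fun x => ?_
    have hzB : z ∈ B := ⟨hz.1, fun y hy => hz.2 y (centerThompsonAOf_le R hy)⟩
    have e2 : L ⊔ R ≤ 𝐂[zpowers z] := by
      refine sup_le ?_ (le_centralizer_iff.1 (zpowers_le.2 hz.2))
      refine le_centralizer_iff.1 (zpowers_le.2 fun y hy => ?_)
      exact congrArg Subtype.val (mem_center_iff.1 (e (x := ⟨z, hBL hzB⟩) ⟨hzB, fun w hw =>
        Subtype.ext (hz.2 w hw.1)⟩) ⟨y, hy⟩)
    exact ((e1 ▸ e2) (mem_top x) z (mem_zpowers z)).symm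
  have er : (inclusion hBL).range = B.subgroupOf L := inclusion_range hBL
  by_cases nq : ∀ E ≤ B.subgroupOf L, ⁅⁅pCore p L, E⁆, E⁆ ≤ 𝐂[pCore p L] → E ≤ pCore p L
  · have b : Bad p L (inclusion hBL) :=
      ⟨inclusion_injective hBL, er ▸ ⟨_, hP⟩, cL, er ▸ nc, er ▸ nq⟩
    have := Kst_normal b
    refine ⟨L, hLM, Or.inl ?_⟩
    have k := le_normalizer_map_subtype ((Kst p B).map (inclusion hBL))
    rwa [Subgroup.map_map] at k
  push Not at nq
  obtain ⟨E, hE, hq, hEn⟩ := nq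
  have hJ' : B.subgroupOf L ≤ 𝐂[centerThompsonAOf (B.subgroupOf L)] := by
    rw [← Stell.map_le_centralizer_iff L.subtype_injective,
      map_centerThompsonAOf _ L.subtype_injective, map_subgroupOf_of_le hBL,
      centerThompsonAOf_eq_of_le hJB inf_le_left]
    exact inf_le_right
  have k := map_mono (f := L.subtype) (commutator_le_of_quad hp2 hP cL hJ' nc hE hq hEn
    (D := (N ⊓ T).subgroupOf L) (by rw [← pCoreOf_subgroupOf]; exact comap_mono hDL))
  rw [map_inf _ _ _ L.subtype_injective, map_subgroupOf_of_le (hDB.trans hBL), map_commutator,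
    _root_.commutator_def, map_commutator, ← MonoidHom.range_eq_map, range_subtype] at k
  refine ⟨𝐎[p, L], fun e => hLM (sL.pRes_sup.ge.trans (sup_le e (inf_le_left.trans h.le))),
    Or.inr ?_⟩
  refine le_trans (coprime_step_pRes (W := N ⊓ T) (isPGroup_pCore' p P) le_normalizer_of_normal
    (le_normalizer_inf le_normalizer_of_normal (le_normalizer_commutator le_normalizer le_normalizer))
    (le_inf ((commutator_mono le_rfl ((pRes_le p L).trans hLN)).trans (commutator_le_right _ _))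
      (commutator_le_left _ _))
    (le_inf (commutator_le_left _ _) (commutator_mono (hDB.trans hBL) (pRes_le p L)))) ?_
  exact k.trans (commutator_mono (subgroupOf_map_subtype M L ▸ inf_le_left)
    (subgroupOf_map_subtype M L ▸ inf_le_left))

end Cfsg.Agent.Transfer.K3
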