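import Cfsg.Agent.PLocal.GNMain

/-! A characteristic subgroup that is normal in every pushing-up group without quadratic
elements. -/

set_option autoImplicit false

namespace Cfsg.Agent.Transfer.K3

open Subgroup Cfsg Cfsg.Agent.PLocal Cfsg.Agent.PLocal.Amb Cfsg.Agent.PLocal.Stell
open Cfsg.Agent.PLocal.CommMod Cfsg.Agent.PLocal.Push Cfsg.Agent.PLocal.GN
open scoped commutatorElement

universe u

section Pair

variable {X : Type*} [Group X] [Finite X] {p q q' : ℕ} [hp : Fact p.Prime] {G H S M M' : Subgroup X}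

theorem pair_nq (g : Vert p q G S M) (h : Vert p q' H S M')
    (spG : ∃ A, SP S A ∧ ¬ A ≤ pCoreOf p G) (spH : ∃ A, SP S A ∧ ¬ A ≤ pCoreOf p H)
    (nq : ∀ E ≤ S, ⁅⁅pCoreOf p H, E⁆, E⁆ ≤ 𝐂[pCoreOf p H] → E ≤ pCoreOf p H) :
    ⁅pCoreOf p G, 𝐎[p, G]⁆ ≤ pCoreOf p H := by
  have e : Zv p G ≤ pCoreOf p H := nq _ g.Zv_le' (commutator_le_of_cent (by
    rw [Subgroup.commutator_comm]
    exact ((commutator_mono le_rfl h.core_le).trans g.commutator_Zv).trans
      (inf_le_right.trans (Amb.centralizer_anti g.Zv_le'))))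
  by_contra h1
  have t : Two p q q' G H S M M' := ⟨g, h, e, fun e' => h1 (((commutator_mono le_rfl
    (pRes_le p G)).trans (le_normalizer_iff_commutator_le_left.1
      (le_normalizer_pCoreOf p G))).trans e'), spG, spH⟩
  have nV : ¬ G ≤ 𝐍[(Zv p G ⊔ Zv p H : Subgroup X)] := fun nV => h1 (t.commutator_le nV)
  obtain ⟨x, hx, hxM⟩ := g.exists_not_mem
  obtain ⟨c1, c2⟩ := t.comm_cj nV hx
  have hBS : cj(x, Zv p H) ≤ S :=
    (cj_le_of_mem_normalizer t.le' (le_normalizer_pCoreOf p G hx)).trans g.core_le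
  refine t.not_le nV hx hxM (nq _ hBS ?_)
  refine (commutator_mono ((commutator_mono h.core_le hBS).trans g.comm) le_rfl).trans ?_
  rw [Subgroup.commutator_comm, c1]
  exact c2.trans (Amb.centralizer_anti (h.core_le.trans g.syl.le))

end Pair

/-- A pushing-up group over `S` without quadratic elements on the `p`-core. -/
structure Bad (p : ℕ) {S : Type*} [Group S] (L : Type*) [Group L] (τ : S →* L) : Prop where
  inj : Function.Injective τ
  push : ∃ M, PushE p τ.range (pCore p L) M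
  char : 𝐂[pCore p L] ≤ pCore p L
  nc : ¬ τ.range ⊓ 𝐂[τ.range] ≤ center L
  nq : ∀ E ≤ τ.range, ⁅⁅pCore p L, E⁆, E⁆ ≤ 𝐂[pCore p L] → E ≤ pCore p L

variable {p : ℕ} [hp : Fact p.Prime]

omit hp in
theorem Bad.comp {S S' L : Type*} [Group S] [Group S'] [Group L] {τ : S →* L} (h : Bad p L τ)
    (e : S' ≃* S) : Bad p L (τ.comp e.toMonoidHom) := by
  have k : (τ.comp e.toMonoidHom).range = τ.range := by
    rw [MonoidHom.range_comp, MonoidHom.range_eq_top.2 e.surjective, ← MonoidHom.range_eq_map]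
  exact ⟨h.inj.comp e.injective, k ▸ h.push, h.char, k ▸ h.nc, k ▸ h.nq⟩

theorem Bad.vert {S G : Type*} [Group S] [Group G] [Finite G] (m : Main p S) {σ : S →* G}
    (h : Bad p G σ) :
    ∃ q M, Vert p q ⊤ σ.range M ∧ ∃ A, SP σ.range A ∧ ¬ A ≤ pCoreOf p ⊤ := by
  obtain ⟨M, hM⟩ := h.push
  have hσ := h.inj
  obtain ⟨q, v⟩ := vert_of_pushE hM h.char (by
      rw [MonoidHom.range_eq_map, ← map_centerThompsonAOf _ hσ, map_le_centralizer_iff hσ]
      exact le_centralizer_iff.1 (m.zj.trans (by rw [coe_top, centralizer_univ])))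
    h.nc (by
      rw [← map_center_eq hσ]
      rintro _ ⟨z, hz, rfl⟩
      rw [← map_pow, m.el z hz, map_one]) (σ.range_eq_map ▸ m.cd.map hσ)
  obtain ⟨A, hA, h1⟩ := m.sp ((pCoreOf p ⊤).comap σ) fun e => v.ne (by
    rw [MonoidHom.range_eq_map, map_le_iff_le_comap, e])
  exact ⟨q, M, v, A.map σ, σ.range_eq_map ▸ hA.map hσ, fun e => h1 (map_le_iff_le_comap.1 e)⟩

theorem Bad.pair {S G H : Type*} [Group S] [Group G] [Group H] [Finite G] [Finite H] (m : Main p S)
    {σ : S →* G} (h : Bad p G σ) {τ : S →* H} (h' : Bad p H τ) :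
    (⁅pCoreOf p (⊤ : Subgroup G), 𝐎[p, (⊤ : Subgroup G)]⁆).comap σ ≤ (pCoreOf p ⊤).comap τ := by
  have := Finite.of_injective σ h.inj
  obtain ⟨q, M, v, A, hA, hAT⟩ := h.vert m
  obtain ⟨q', M', v', A', hA', hAT'⟩ := h'.vert m
  obtain ⟨X, _, _, f, f', hf, hf', e⟩ := exists_amalgam_embedding σ h.inj τ h'.inj
  have e1 : τ.range.map f' = σ.range.map f := by
    rw [MonoidHom.map_range, MonoidHom.map_range, e]
  have w := v.map hf
  have w' := v'.map hf'
  rw [e1] at w'
  have e2 := pair_nq w w' ⟨A.map f, hA.map hf, by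
      rwa [pCoreOf_map hf, map_le_map_iff_of_injective hf]⟩
    ⟨A'.map f', e1 ▸ hA'.map hf', by rwa [pCoreOf_map hf', map_le_map_iff_of_injective hf']⟩
    fun E hE k => by
      rw [← e1] at hE
      have e3 : (E.comap f').map f' = E := map_comap_eq_self (hE.trans (map_le_range _ _))
      rw [← e3, pCoreOf_map hf', ← map_commutator, ← map_commutator, map_le_centralizer_iff hf',
        pCoreOf_top] at k
      rw [← e3, pCoreOf_map hf', pCoreOf_top]
      refine map_mono (h'.nq _ ?_ k)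
      rwa [← e3, map_le_map_iff_of_injective hf'] at hE
  intro x hx
  rw [pCoreOf_map hf, ← map_pRes, ← map_commutator, pCoreOf_map hf'] at e2
  have h2 := e2 (mem_map_of_mem f hx)
  rw [show f (σ x) = f' (τ x) from DFunLike.congr_fun e x, mem_map_iff_mem hf'] at h2
  exact h2

theorem mcl_normal {G : Type*} [Group G] [Finite G] {S T M : Subgroup G} (h : PushE p S T M)
    (hc : 𝐂[T] ≤ T) (hJ : S ≤ 𝐂[centerThompsonAOf S]) (hZ : ¬ S ⊓ 𝐂[S] ≤ center G)
    {Q : Subgroup S} (hQ : IsMinimalCentrallyLarge Q) : ((⁅Q, Q⁆).map S.subtype).Normal := by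
  have := h.normal
  have o := h.off_center hc hJ hZ
  obtain ⟨Y, hY, hYT⟩ : ∃ Y : Subgroup S, IsMinimalCentrallyLarge Y ∧ Y ≤ T.subgroupOf S := by
    by_cases hQT : Q ≤ T.subgroupOf S
    · exact ⟨Q, hQ, hQT⟩
    have hZS : T ⊓ 𝐂[T] ≤ S := inf_le_left.trans h.core_le
    obtain ⟨-, hY, -⟩ := mcl_inf_sup (T := T.subgroupOf S) (Z := (T ⊓ 𝐂[T]).subgroupOf S)
      (comap_mono inf_le_left) (by rw [centralizer_subgroupOf hZS]; exact comap_mono o.cent)
      (h.bound_subgroupOf o (commutator_le_left _ _) hZS) hQ hQT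
    exact ⟨_, hY, sup_le inf_le_right (comap_mono inf_le_left)⟩
  apply normal_of_forall_map_conj_eq
  intro g
  obtain ⟨R', -, h1, h2, -⟩ := mcl_cj (p := p) h.core_le hY hYT g
  conv_lhs => rw [mcl_commutator_eq hQ hY, map_commutator, ← commutator_cj, ← h1]
  rw [mcl_commutator_eq hQ h2, map_commutator]

variable {S : Type u} [Group S] [Finite S]

theorem exists_normal [Nontrivial S] (hS : IsPGroup p S) (hJ : JT S = ⊤) :
    ∃ K : Subgroup S, K ≠ ⊥ ∧ ∀ (L : Type u) [Group L] [Finite L] (τ : S →* L), Bad p L τ →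
      (K.map τ).Normal := by
  have hZJ : ZJ S ≤ center S := by
    have := le_centralizer_iff.1 hJ.ge
    rwa [coe_top, centralizer_univ] at this
  by_cases h2 : ∀ z ∈ center S, z ^ p = 1
  swap
  · refine ⟨closure {y | ∃ x ∈ center S, y = x ^ p},
      fun e => h2 fun z hz => e.le (Subgroup.subset_closure ⟨z, hz, rfl⟩), fun G _ _ τ b => ?_⟩
    obtain ⟨M, hP⟩ := b.push
    refine normal_of_le_center ?_
    rw [MonoidHom.map_closure, closure_le]
    rintro _ ⟨_, ⟨x, hx, rfl⟩, rfl⟩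
    rw [map_pow]
    exact hP.pow_mem_center (hP.off_center b.char (range_le_of_jt hJ b.inj) b.nc)
      (hP.center_le b.char (map_center_eq b.inj ▸ mem_map_of_mem τ hx))
  obtain ⟨Q, hQ⟩ := exists_isMinimalCentrallyLarge (G := S)
  by_cases h3 : ⁅Q, Q⁆ = ⊥
  swap
  · refine ⟨_, h3, fun G _ _ τ b => ?_⟩
    obtain ⟨M, hP⟩ := b.push
    have h4 := mcl_normal hP b.char (range_le_of_jt hJ b.inj) b.nc
      (mcl_map (MonoidHom.ofInjective b.inj) hQ)
    rwa [← map_commutator, map_range_subtype] at h4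
  have hcl : ∀ A ∈ maxAbelianSubgroups S, IsCentrallyLarge A := fun A hA =>
    ((mcl_iff_maxAb hQ ⟨⟨fun a b => Subtype.ext (commutatorElement_eq_one_iff_mul_comm.1
      (h3.le (commutator_mem_commutator a.2 b.2)))⟩⟩ A).2 hA).1
  have hcdJ : IsCentralizerLarge (thompsonSubgroupA S) :=
    cd_sSup exists_maxAb fun A hA => (isCentrallyLarge_iff.1 (hcl A hA)).1
  have hj : thompsonSubgroupA S = ⊤ := by
    obtain ⟨A, hA⟩ := exists_maxAb (G := S)
    have h4 : 𝐂[thompsonSubgroupA S] ≤ thompsonSubgroupA S :=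
      (Amb.centralizer_anti (le_sSup hA)).trans ((maxAb_centralizer hA).le.trans (le_sSup hA))
    rw [← cd_centralizer_centralizer hcdJ, eq_top_iff, ← hJ]
    exact Amb.centralizer_anti (le_inf h4 le_rfl)
  have key : ∀ A : Subgroup S, IsCentralizerLarge A → CD ⊤ A := fun A hA => by
    rw [cd_iff le_top]
    have h4 := cd_map (topEquiv (G := S)).symm hA
    rwa [← comap_equiv_eq_map_symm'] at h4
  have m : Main p S := ⟨hS, h2, key _ (hj ▸ hcdJ), zj_eq.le.trans hZJ, fun R hR => by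
    by_contra! e
    refine hR (eq_top_iff.2 (hj.ge.trans (sSup_le fun A hA => e A
      ⟨key A (isCentrallyLarge_iff.1 (hcl A hA)).1, ?_⟩)))
    rw [top_inf_eq, maxAb_centralizer hA]⟩
  let 𝒢 : Set (Subgroup S) := {R | ∃ (G : Type u) (_ : Group G) (_ : Finite G) (τ : S →* G),
    Bad p G τ ∧ R = (pCoreOf p ⊤).comap τ}
  have hn : (sInf 𝒢).Normal := ⟨fun x hx g => mem_sInf.2 (by
    rintro _ ⟨G, _, _, τ, b, rfl⟩
    have := mem_sInf.1 hx _ ⟨G, _, inferInstance, τ, b, rfl⟩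
    rw [pCoreOf_top] at this ⊢
    exact (Subgroup.Normal.comap inferInstance τ).conj_mem x this g)⟩
  refine ⟨sInf 𝒢, fun e => center_ne_bot' hS (eq_bot_iff.2 (le_trans (le_sInf ?_) e.le)),
    fun G _ _ τ b => ?_⟩
  · rintro _ ⟨G, _, _, τ, b, rfl⟩
    obtain ⟨M, hP⟩ := b.push
    rw [← map_le_iff_le_comap, map_center_eq b.inj, pCoreOf_top]
    exact (hP.center_le b.char).trans inf_le_left
  obtain ⟨q, M, v, -⟩ := b.vert m
  have h1 : (⁅pCoreOf p (⊤ : Subgroup G), 𝐎[p, (⊤ : Subgroup G)]⁆).comap τ ≤ sInf 𝒢 := by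
    refine le_sInf ?_
    rintro _ ⟨H, _, _, σ, b', rfl⟩
    exact b.pair m b'
  refine normalizer_eq_top_iff.1 (eq_top_iff.2 (v.syl.pRes_sup.ge.trans (sup_le
    (le_normalizer_iff_commutator_le_left.2 ?_) ?_)))
  · have h4 : (sInf 𝒢).map τ ≤ pCoreOf p ⊤ :=
      map_le_iff_le_comap.2 (sInf_le ⟨G, _, inferInstance, τ, b, rfl⟩)
    refine (commutator_mono h4 le_rfl).trans (le_trans ?_ (map_mono h1))
    exact (map_comap_eq_self ((le_normalizer_iff_commutator_le_left.1
      (le_top.trans (le_normalizer_pCoreOf p ⊤))).trans v.core_le)).ge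
  · rw [MonoidHom.range_eq_map]
    exact (map_mono le_normalizer_of_normal).trans (le_normalizer_map τ)

/-- The largest subgroup that is normal in all bad overgroups. -/
def Kst (p : ℕ) (S : Type u) [Group S] : Subgroup S :=
  sSup {K | ∀ (L : Type u) [Group L] [Finite L] (τ : S →* L), Bad p L τ → (K.map τ).Normal}

omit hp [Finite S] in
theorem Kst_normal {L : Type u} [Group L] [Finite L] {τ : S →* L} (b : Bad p L τ) :
    ((Kst p S).map τ).Normal := by
  rw [Kst, sSup_eq_iSup', Subgroup.map_iSup]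
  have := fun K : {K : Subgroup S | ∀ (L : Type u) [Group L] [Finite L] (τ : S →* L),
    Bad p L τ → (K.map τ).Normal} => K.2 L τ b
  infer_instance

theorem Kst_ne_bot [Nontrivial S] (hS : IsPGroup p S) (hJ : JT S = ⊤) : Kst p S ≠ ⊥ := by
  obtain ⟨K, h1, h2⟩ := exists_normal hS hJ
  have h3 : K ≤ Kst p S := le_sSup h2
  exact fun e => h1 (eq_bot_iff.2 (h3.trans e.le))

omit hp [Finite S] in
theorem Kst_map_le {S' : Type u} [Group S'] (e : S ≃* S') :
    (Kst p S).map e.toMonoidHom ≤ Kst p S' :=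
  le_sSup fun L _ _ τ b => by rw [Subgroup.map_map]; exact Kst_normal (b.comp e)

omit hp [Finite S] in
theorem Kst_map {S' : Type u} [Group S'] (e : S ≃* S') :
    (Kst p S).map e.toMonoidHom = Kst p S' :=
  le_antisymm (Kst_map_le e) ((map_map_symm e _).ge.trans (map_mono (Kst_map_le e.symm)))

end Cfsg.Agent.Transfer.K3
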